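import Cfsg.Agent.Lib.Helper28.TCCheck
import Cfsg.Agent.Lib.Helper56.ONS.Pres

set_option autoImplicit false
set_option linter.unusedVariables false

namespace Cfsg.Agent.Lib.Helper56.ONS

open Cfsg.Agent.Lib.Helper28.TC

noncomputable section

def hotA_c0 : ℕ := 0x0
def hotA : ℕ := hotA_c0
def coldA_c0 : ℕ := 0x0
def coldA : ℕ := coldA_c0
def treeT_c0 : ℕ := 0x8f38a8e3868d3828c37f8b37e8a47d89379883768737586474853718436e8336d8246c81369803687f4677e4667d3667c3637b3607a35f7945e7835b7735a764597545874358733557235471453703506f34f6e44e6d44d6c34d6b34b6a34a69449684486734866048653456434463443623406133f6043e5f43d5e33d5d33b5c33a5b4395a43859338580385733556334554335443253332523305132f5042e4f42d4e32d4d02d4c32c4b42b4a42a4932a4812a47327463264542544424433244232241321404203f41f3e31f3d01f3c31e3b41d3a41c3931c3811c3731a363193541834417333173201731316304152f4142e3142d1142c4132b3132a21329311283102740f2640e2530e2400e2330d2240c2140b2030b1f10b1e40a1d30a1c20a1b3091a408194071830717107164061530614206130061230511404104030f3030e1030d4020c3020b2020a00209401083010720106101054000430003200021000100000000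
def treeT : ℕ := treeT_c0
def rowT_c0 : ℕ := 0x8f8e8d8c8b8a898887868584838281807f7e7d7c7b7a797877767574737271706f6e6d6c6b6a696867666564636261605f5e5d5c5b5a595857565554535251504f4e4d4c4b4a494847464544434241403f3e3d3c3b3a393837363534333231302f2e2d2c2b2a292827262524232221201f1e1d1c1b1a191817161514131211100f0e0d0c0b0a09080706050403020100
def rowT : ℕ := rowT_c0

end

end Cfsg.Agent.Lib.Helper56.ONS
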