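import Cfsg.Agent.Lib.Helper28.TCCheck
import Cfsg.Agent.Lib.Helper56.ONS.Pres

set_option autoImplicit false
set_option linter.unusedVariables false

namespace Cfsg.Agent.Lib.Helper56.ONS

open Cfsg.Agent.Lib.Helper28.TC

noncomputable section

def hotE0_c0 : ℕ := 0xb2636c189ae616c890aa606a180a65f2c08fa35e287779fdd2b88e9c5c26b6f98dc6a88ca822e4f6991da24166a622a33628b5862563a3222868785d6e115a9fa1a05577fd5a62829c2126a8379d41e14f7654dd352735464e7f919f9b949901f5b1476b51a24798c9ee2c7a655018f3f6250d83425f5061676841d56f395a52204737f9c95b35554d1d86c749adcc6a799b9e06d4d4b931324acc5253047cbdb8675a161b0656b191092741499885e609757c5c651818e5f39480e32437c8cd92234c856e5932ca8c5292fca15a5555150b1184c1352a4c4912d1e4a4d138991724c588f15328e0c4372f8d9084541110770f388f4de3c360ecd23a390f8610e17434590c1544c511212c4445102c0cc982d248b08e2b0cc1c541c1406c4a1a1106476251807c5c1e16074190305c18130503c10321405828120903820180b004040002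
def hotE0 : ℕ := hotE0_c0
def coldE0_c0 : ℕ := 0x8c80002220000849fc0c1f00008080001fe00007b9d80c1f00007780001da0000739b80c1f00006f80001ba0000709a00c1f670308c0001a20000678000196600307c000186000060800018a5a0307d640c2300005a8000166550307c00015a0000559400c1f4f0307d380c2300004f800013a00005280001460000509200c23480307c000122450307c00011a0000459000c1f3f0307cf80c2300003f80000fa00004280001060000408e00c23380307c0000e20000478d00c1f330308c0000d20000338c00c1f2f0307cb80c232d0308cb40c1f00002d80000c600003080000be00002e8000000270307c980c1f250308c00009a0000258880c1f210307c800c231f0308c7c0c1f00001f800008e0000228000086000020800000000002980000a200002785c0c23170307c00005e160307c540c23140308c500c1f000000000005a0000158000052110307c400c1f0f0308c380c230e0307c00003a0d0307c300c230b0308c2c0c1f000000000003600000c800002e0000128000046000010800003e0000000180c23060307c180c1b0000068140c1f040308c0c0c23030307c000000020308c080c1f020306c00000a00000580000120000038000000000308c000c1f000306c0000000000008000000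
def coldE0 : ℕ := coldE0_c0
def tfT0_c0 : ℕ := 0x8c88848f807f7b8e7776738d6f6e708b8a6867658961606287865a598556558183824f4e5251507e7d487c4645787a793f3e42414075743847727134336b6a696d6c2d31302f2e6657646326255d5c5b5f5e1f23222120582928275453174c4b4a494d16151437363544430e3c3b3a393d0d0c0b1211100f322c2b2a061b1a1918241e1d1c02050403130908070a0001
def tfT0 : ℕ := tfT0_c0

end

end Cfsg.Agent.Lib.Helper56.ONS
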