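import Cfsg.Agent.Lib.Helper28.TCCheck
import Cfsg.Agent.Lib.Helper56.ONS.Pres

set_option autoImplicit false
set_option linter.unusedVariables false

namespace Cfsg.Agent.Lib.Helper56.ONS

open Cfsg.Agent.Lib.Helper28.TC

noncomputable section

def hotE1_c0 : ℕ := 0xb2e3ac38ab2a42b182aae12a383b0a3e9379a3dee897aa05f67771aaa32a28bac2365d6b95daa516e925b680868e58e8e88a221e9289885761d5c86582135f82d6207658059276857cd49ed51941fe487e76d7a5c8195a01c74b70529bb4e6d5220673801ca387c685099b41861da1275769b22078871dd793b5d4e9713e829d16537584d95d4555d114f387c9c1ec6f504c13b2f6e99d333d4b4f1c669701a1192b6d1991129434a15c5555950ff2a681899a613c488eb215c165324d4b131785b5d168cf1d5394d645758158bb1a2dc64b3252bc70ab1b501413a4f274549b1f2547918493f90d1047431187f111ec40b2331d44c71123c100ea3f18c309a2d250b0ce392b8c8aa312e8d4b634104203f0a0ec249c2e0d42c74241c08c7e271e898250408c181f051888034140f85c3a16100600b02088381e0d0903c03010281c0203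
def hotE1 : ℕ := hotE1_c0
def coldE1_c0 : ℕ := 0x8d800022682030bc000206000083800020a79030bc0001e200007a80001e600007c80001c26d030bdb00c3369030bc0001aa00006980001b600006c98c0c2f00006297c0c2f5e030cd6c0c2f00005c800016e00005f800017a00005780001920000639400c2f00005180001424d030cd340c2f00005d9280c2f49030cc00012a00004980001360000479100c2f43030cd000c2f00004180001023d030ccf40c2f3b030bce80c2f39030cc0000ea00003980000f635030bc0000da000035800011200004380000de2f030bcb80c3300002f80000ba480205c0000f200003b8a80c332a030bc0000aa27030bc0000a20000278900c3324030bc0000a621030bc800c330000218000082380205c780c2f1d030cc700c331c030bc0000721a030bc640c2f18030cc000066000018800009200001b800006a14030cc500c2f000014800007a00001d800000011030bc400c2f0f030cc00004200000f85c081700001280000460b030cc2c0c2f00000b8280c330a030bc00000009030bc200c3307030cc1c0c2f0000078000026000008800000000000a8140c2f04030cc0c0c3303030bc00000e0000058000012000000018081701030cc040c2f000000000000600030cc000c2f00000000000020000000000000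
def coldE1 : ℕ := coldE1_c0
def tfT1_c0 : ℕ := 0x8d898f8183828e787a797c708b8a8c6a696d6c85628786885c5b5f5e5764638451507e7d5d807f4a494d4772717b414075746b77763a393d7336354443376f6e2f2e663c3b68672a65282754532961602120584c4b5a591c5256551918241b1a4f4e141e1d48424645100f3212113f3e0b2c2b38313034330709082d0a232226250305041f13161517010d0c0e000602
def tfT1 : ℕ := tfT1_c0

end

end Cfsg.Agent.Lib.Helper56.ONS
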