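import Cfsg.Agent.Lib.Helper28.TCCheck
import Cfsg.Agent.Lib.Helper56.ONS.Pres

set_option autoImplicit false
set_option linter.unusedVariables false

namespace Cfsg.Agent.Lib.Helper56.ONS

open Cfsg.Agent.Lib.Helper28.TC

noncomputable section

def hotE2_c0 : ℕ := 0xb363ecc90aee1ab389ab622a587a6df6b28dab232a48baea3a79749cdce6d72995b25f78965de537692dd69a8a8ed9a35658bd92275e97a065880949fe4a7e9e21672849b20df9537d55def567a555e35499209d54d73d31c95b70d69bd598e9f2347b8b9e9a74368d1d9d4665d159144899e5853d5fcf1c869709a1bc675ace1f4707b9bde86e789b5f87152cc9473150cd53d344dccdd46b739a9272d484b11b39454a9a2626718596606417da6633ec90f7233cc9ced2639c95845d5f970db1f354791a495a960c71c3046d42504f13d364e52949465129c5ca31627c61264b481288d1445120871320c48f2403b0fce63e3e908f6411b438690d1943cda3b350e8570b318dcc036134284709278b8a630288bc3707230ac8629208a02d060a41464201b088682106c0c561d1306846190340836150b0442810014041a0c030200404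
def hotE2 : ℕ := hotE2_c0
def coldE2_c0 : ℕ := 0x8ea180c3f0000858000222000087800021a00007c9d80c3f75030fdd00c4371030fc0001ce00007280001c600006b80001de00007680001d600007498c0c3f000065800019200006380001765a030fd640c43580310d600c3f55030fd500c3f530310c00014a0000568000156000054800014e4b030fc00013200004b800016a000059800016245030fd100c3f430310c00010a0000468000116000044800010e3b030fc0000f200003b8e00c4338030fd20081b0000378d00c3f330310cc80c4332030fcc00c3f00003180000c200003480000ce0000328b00c3f2b0310c0000b200002b80000e20000298980c3f250310c900c4324030fc880c3f000023800008a00002680000960000248780c3f1d0310c00007a00001d8a8082b1a030fc00006e00001a85c0c4317030fcb4081b16030fc540c43000016800005600001784c0c4313030fc00004e11030fc00004a0000118380c430e030fc7c081b0d030fc300c4300000d800003200000e8280c430a030fc00002a09030fc200c43000009800002214020ac180c4306030fc00001a0000000140c3f040310c00001600000482c082b020310c080c3f0000028000000010310c040c3f0000018000000000310c000c3f00000080000000000000000000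
def coldE2 : ℕ := coldE2_c0
def tfT2_c0 : ℕ := 0x8e8f858887867c8c8b8a8d7372716b77767574896564635d807f7e7d8483825256555453814c4b5a59587b7a794246454443783c3b686766376f6e6d6c7031303433326a692c2b382961605f5e6223222625245c5b1e1d48571b1a4f4e4d51501615174a49134712113f3e3d41400d0c0e3a390a363509082d2f2e062a282705041f2120021c19180114100f000b0703
def tfT2 : ℕ := tfT2_c0

end

end Cfsg.Agent.Lib.Helper56.ONS
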