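import Cfsg.Agent.Lib.Helper28.TCCheck
import Cfsg.Agent.Lib.Helper56.ONS.Pres

set_option autoImplicit false
set_option linter.unusedVariables false

namespace Cfsg.Agent.Lib.Helper56.ONS

open Cfsg.Agent.Lib.Helper28.TC

noncomputable section

def hotE3_c0 : ℕ := 0xb1e2ebf87ade0eaf80a9dfec690a5dea9177a2ddabe8f9f5ca756f9bdbab68e985aa5b69aba36a68c9159e3f648dd863160a5a2a235c87d6e9089a2a220f598255a03559f219f7517c54274859ba11df4e75d31d14b9820a5a816fd26447e6cd19af458f9f5a54167d02367c8c1ed8d3e61cf1813b889e61e785cce60e7559cd96335821d2027354ccd4d31524c1f6717c1c1392e779b52f2d759b1d06b474adbe6844ca10f276c999ae6540c94fd233e489a46367988e9206317ce11f61979805d34475725a3246cc31a5996162572d46152542b45d4c5352148a1154e13d2e4d244511c4a224488511449210e471e43d02441cc38fc433e108670c3a0fce03d16c2cd03a14c28c838308dc43082d0d0ac320e41ca02f240b03106220a8842909c1078261c8901d03198845a1e1487011021086438160c04c0701098401c0d040240605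
def hotE3 : ℕ := hotE3_c0
def coldE3_c0 : ℕ := 0x8a800021a00008280001fe00007e800000000007980001da000075800000000007180001ba00006d800000000006980001a20000000000000000066800018e000060800017e000000000016e00005a800000000000000001620000558000152000000000014200004f8000000000000000013600004b800012a000000000000000004880000000000458000112000000000010200003f800000000000000000f600003b80000ea0000000000000000038800000000003580000d2000000000000000003280000c200002f800000000000000000b600000000000b2000000000000000002a8000000000027800009a0000000000000000024800008a0000218000000000000000007e000000000007a000000000000000001c800000000001a80000660000000000000000017800000000001680000000000000000052000000000000000001380000000000118000042000000000000000000e800000000000d8000000000000000002e000000000000000000a80000000000098000000000000000001e00000000000000000068000000000000000001600000000000000000038000000000000000000a000000000000000000000000060000000000000000000000000200000000000000000000000000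
def coldE3 : ℕ := coldE3_c0
def tfT3_c0 : ℕ := 0x8a86827f7e8f7976758e716e6d8d69688c8b6663605f895b5a888758555485504f84834d4b4a8180487d45447c403f7b7a3d3b3a787738743534737232302f706f2d6c2c6b6a2a672726656424222162611f5e1e5d5c1c591a1957561753165251144e4c1349111047460e430d42410b3e3c0a39093736073331062e2b05292803252302201d1b01181512000f0c0804
def tfT3 : ℕ := tfT3_c0

end

end Cfsg.Agent.Lib.Helper56.ONS
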