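import Cfsg.Agent.Lib.Helper28.TCCheck
import Cfsg.Agent.Lib.Helper56.ONS.Pres

set_option autoImplicit false
set_option linter.unusedVariables false

namespace Cfsg.Agent.Lib.Helper56.ONS

open Cfsg.Agent.Lib.Helper28.TC

noncomputable section

def hotE4_c0 : ℕ := 0xb3e32c588af612b581b3a429f7ea75ee9578b123e8575a0dce7b70af23a696d99daeb48d955a24d67a7a2e43658f58a9c8a8ad7e295da52261b5a8556684878355e82867f551fb529ea15eb4f7953a688377536668272d29c549952024c7f6dd1e427d6ad11a9428f1f1993f64cfa2a7a62cf628795ece97739869de14765b4de0c7457cd159337f1c951327e9c5452f4fcb9ea6f791b9dc6c4a4b1232b729a9c46945ca5b66642c9907256a99101246a18cf5213bc819861649818a5e37478d71d5e971765b334716c582f464b9185795958555414ca9162945544514f94097144a131224b22c4d1648204407d0f4291906454010c6f0d1ac30f4413b9005f0b370f0d63b330e04f0912420bc362e0d43d072a0c4a430258b48a2a0bc142b04200a07c270840c6e231a8885e1f054084e1b120683c17024042e120a844200e050280806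
def hotE4 : ℕ := hotE4_c0
def coldE4_c0 : ℕ := 0x8b800021e00008380002028a0214c0001f600007a80001de860214c0001d200007280001be820214c0001b200006a9fc0853000067800019a00000000001920000619e4085300005e8000172760214c00016600005880000000000569c4085300005380001466e0214c00013a00004d800000000004c9a408530000498000122000000000000000004698c08530000438000106600214c0000fa00003d800000000003c96c085300003980000e20000000000000000036954085300003380000ca00000000000c6500214c0000ba00002d800000000000012c085300002b80000aa000000000000000002891408530000258000092000000000008e400214c00008200001f80000000000000ec085300001d8000072000000000000000001b8d40853000018800005e0000000000000300214c0000560000148000000000000000004e000000000000000001289c085300000f800003a0000000000000220214c00003200000b8000000000000000002a00000000000001a0214c0000220000078000000000000000001a00000000000000000000440853000004800000e00000000000000000028000000000000000000000000180000000000000000000000000800000000000000000000000000000000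
def coldE4 : ℕ := coldE4_c0
def tfT4_c0 : ℕ := 0x8b8783808f7d7a778e74726f8d6c6a8c67668a6461895e5c8859588656855351844e4d824c8149487f7e467c43417b3e3d793c7839387675367333327131702e2d6e6d6b2b2a696828652524632362201f605f5d1d1c5b5a1b5718175554521514504f134b4a12470f0e4544420c0b403f0a3b3a370807353406302f2c29040327260222211e011a19160011100d0905
def tfT4 : ℕ := tfT4_c0

end

end Cfsg.Agent.Lib.Helper56.ONS
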